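import Mathlib

/-!
# Counting 2-dimensional subspaces of a finite `ZMod p`-space and the arithmetic of the bound
-/

set_option autoImplicit false

namespace Cfsg.Agent.SameOrderConj

open Submodule

variable {p : ℕ} [Fact p.Prime] {V : Type*} [AddCommGroup V] [Module (ZMod p) V]

theorem smul_ne_zero_of_ne {a : ZMod p} {v : V} (ha : a ≠ 0) (hv : v ≠ 0) : a • v ≠ 0 := fun h =>
  hv (by rw [← inv_smul_smul₀ ha v, h, smul_zero])

theorem card_line {v : V} (hv : v ≠ 0) : Nat.card (span (ZMod p) {v}) = p := by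
  rw [← Nat.card_congr (LinearEquiv.toSpanNonzeroSingleton (ZMod p) V v hv).toEquiv, Nat.card_zmod]

theorem card_span_pair {v w : V} (hv : v ≠ 0) (hw : w ∉ span (ZMod p) ({v} : Set V)) :
    Nat.card (span (ZMod p) ({v, w} : Set V)) = p ^ 2 := by
  let f : ZMod p × ZMod p → span (ZMod p) ({v, w} : Set V) :=
    fun x => ⟨x.1 • v + x.2 • w, mem_span_pair.2 ⟨x.1, x.2, rfl⟩⟩
  have hf : Function.Bijective f := by
    refine ⟨fun x y h => ?_, fun ⟨z, hz⟩ => ?_⟩
    · have h' : (x.1 - y.1) • v + (x.2 - y.2) • w = 0 := by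
        have := congrArg Subtype.val h
        simp only [f] at this
        rw [← sub_eq_zero] at this
        rw [sub_smul, sub_smul, ← this]
        abel
      by_cases h2 : x.2 - y.2 = 0
      · rw [h2, zero_smul, add_zero] at h'
        have h1 : x.1 - y.1 = 0 := by
          by_contra h1
          exact smul_ne_zero_of_ne h1 hv h'
        exact Prod.ext (sub_eq_zero.1 h1) (sub_eq_zero.1 h2)
      · refine absurd (mem_span_singleton.2 ⟨-((x.2 - y.2)⁻¹ * (x.1 - y.1)), ?_⟩) hw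
        have h3 := congrArg ((x.2 - y.2)⁻¹ • ·) h'
        simp only [smul_add, smul_zero, inv_smul_smul₀ h2, smul_smul] at h3
        rw [neg_smul]
        exact (eq_neg_of_add_eq_zero_right h3).symm
    · obtain ⟨a, b, rfl⟩ := mem_span_pair.1 hz
      exact ⟨(a, b), rfl⟩
  rw [← Nat.card_congr (Equiv.ofBijective f hf), Nat.card_prod, Nat.card_zmod, sq]

variable [Finite V]

/-- The number of ordered independent pairs. -/
theorem card_pairs : Nat.card {x : V × V // x.1 ≠ 0 ∧ x.2 ∉ span (ZMod p) ({x.1} : Set V)} =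
    (Nat.card V - 1) * (Nat.card V - p) := by
  classical
  haveI := Fintype.ofFinite V
  let e : {x : V × V // x.1 ≠ 0 ∧ x.2 ∉ span (ZMod p) ({x.1} : Set V)} ≃
      Σ v : {v : V // v ≠ 0}, {w : V // w ∉ span (ZMod p) ({v.1} : Set V)} :=
    { toFun := fun x => ⟨⟨x.1.1, x.2.1⟩, ⟨x.1.2, x.2.2⟩⟩
      invFun := fun y => ⟨(y.1.1, y.2.1), y.1.2, y.2.2⟩
      left_inv := fun x => rfl
      right_inv := fun y => rfl }
  have h : ∀ v : {v : V // v ≠ 0}, Nat.card {w : V // w ∉ span (ZMod p) ({v.1} : Set V)} =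
      Nat.card V - p := by
    intro v
    have h1 : Nat.card {w : V // w ∈ span (ZMod p) ({v.1} : Set V)} = p := card_line v.2
    rw [Nat.card_eq_fintype_card] at h1
    rw [Nat.card_eq_fintype_card, Fintype.card_subtype_compl, h1, Nat.card_eq_fintype_card]
  have h0 : Nat.card {v : V // v ≠ 0} = Nat.card V - 1 := by
    rw [Nat.card_eq_fintype_card, Fintype.card_subtype_compl, Fintype.card_subtype_eq,
      Nat.card_eq_fintype_card]
  rw [Nat.card_congr e, Nat.card_sigma, Finset.sum_congr rfl fun v _ => h v, Finset.sum_const,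
    Finset.card_univ, smul_eq_mul, ← Nat.card_eq_fintype_card, h0]

/-- The 2-dimensional subspaces. -/
abbrev Planes (p : ℕ) [Fact p.Prime] (V : Type*) [AddCommGroup V] [Module (ZMod p) V] :=
  {W : Submodule (ZMod p) V // Nat.card W = p ^ 2}

/-- Counting the planes. -/
theorem card_planes : Nat.card (Planes p V) * ((p ^ 2 - 1) * (p ^ 2 - p)) =
    (Nat.card V - 1) * (Nat.card V - p) := by
  classical
  haveI : Finite (Submodule (ZMod p) V) := Finite.of_injective _ SetLike.coe_injective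
  haveI := Fintype.ofFinite (Planes p V)
  have hmem : ∀ (W : Planes p V) (x : W.1 × W.1), x.1 ≠ 0 →
      x.2 ∉ span (ZMod p) ({x.1} : Set W.1) → (x.2 : V) ∉ span (ZMod p) ({(x.1 : V)} : Set V) := by
    intro W x _ h2 h
    obtain ⟨a, ha⟩ := mem_span_singleton.1 h
    exact h2 (mem_span_singleton.2 ⟨a, Subtype.ext ha⟩)
  let f : (Σ W : Planes p V, {x : W.1 × W.1 // x.1 ≠ 0 ∧ x.2 ∉ span (ZMod p) ({x.1} : Set W.1)}) →
      {x : V × V // x.1 ≠ 0 ∧ x.2 ∉ span (ZMod p) ({x.1} : Set V)} :=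
    fun y => ⟨((y.2.1.1 : V), (y.2.1.2 : V)), fun h => y.2.2.1 (Subtype.ext h),
      hmem y.1 y.2.1 y.2.2.1 y.2.2.2⟩
  have heq : ∀ (W : Planes p V) (v w : V), v ∈ W.1 → w ∈ W.1 → v ≠ 0 →
      w ∉ span (ZMod p) ({v} : Set V) → span (ZMod p) ({v, w} : Set V) = W.1 := by
    intro W v w hv hw hv0 hwv
    have hle : span (ZMod p) ({v, w} : Set V) ≤ W.1 := span_le.2 (Set.insert_subset hv (by simpa using hw))
    exact SetLike.coe_injective (Set.eq_of_subset_of_ncard_le hle (le_of_eq (by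
      have h1 := card_span_pair hv0 hwv
      have h2 := W.2
      rw [← Nat.card_coe_set_eq, ← Nat.card_coe_set_eq]
      exact h2.trans h1.symm)))
  have hf : Function.Bijective f := by
    refine ⟨?_, fun x => ?_⟩
    · rintro ⟨W, ⟨v, w⟩, h1, h2⟩ ⟨W', ⟨v', w'⟩, h1', h2'⟩ h
      have hv : (v : V) = v' := congrArg (fun z => z.1.1) h
      have hw : (w : V) = w' := congrArg (fun z => z.1.2) h
      have e1 := heq W v w v.2 w.2 (fun e => h1 (Subtype.ext e)) (hmem W (v, w) h1 h2)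
      have e2 := heq W' v' w' v'.2 w'.2 (fun e => h1' (Subtype.ext e)) (hmem W' (v', w') h1' h2')
      rw [hv, hw, e2] at e1
      obtain rfl : W = W' := Subtype.ext e1.symm
      obtain rfl : v = v' := Subtype.ext hv
      obtain rfl : w = w' := Subtype.ext hw
      rfl
    · obtain ⟨⟨v, w⟩, hv, hw⟩ := x
      refine ⟨⟨⟨span (ZMod p) ({v, w} : Set V), card_span_pair hv hw⟩,
        (⟨v, subset_span (Set.mem_insert _ _)⟩, ⟨w, subset_span (Set.mem_insert_of_mem _ rfl)⟩),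
        fun h => hv (congrArg Subtype.val h), fun h => hw ?_⟩, rfl⟩
      obtain ⟨a, ha⟩ := mem_span_singleton.1 h
      exact mem_span_singleton.2 ⟨a, congrArg Subtype.val ha⟩
  have hfib : ∀ W : Planes p V,
      Nat.card {x : W.1 × W.1 // x.1 ≠ 0 ∧ x.2 ∉ span (ZMod p) ({x.1} : Set W.1)} =
        (p ^ 2 - 1) * (p ^ 2 - p) := fun W => by
    rw [card_pairs (p := p) (V := W.1), W.2]
  rw [← card_pairs (p := p) (V := V), ← Nat.card_congr (Equiv.ofBijective f hf), Nat.card_sigma,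
    Finset.sum_congr rfl fun W _ => hfib W, Finset.sum_const, Finset.card_univ, smul_eq_mul,
    Nat.card_eq_fintype_card]

theorem small_pow {p n : ℕ} (hp : 2 ≤ p) (hn : 6 ≤ n) : n * (p ^ 2 - 1) + 1 < p ^ (n - 1) := by
  obtain ⟨m, rfl⟩ : ∃ m, n = m + 6 := ⟨n - 6, by omega⟩
  have h1 : ∀ m : ℕ, m + 7 ≤ 2 ^ (m + 3) := by
    intro m
    induction m with
    | zero => norm_num
    | succ m ih => rw [show m + 1 + 3 = (m + 3) + 1 by omega, pow_succ]; omega
  have h2 : p ^ 2 * 2 ^ (m + 3) ≤ p ^ (m + 6 - 1) := by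
    rw [show m + 6 - 1 = 2 + (m + 3) by omega, pow_add p 2 (m + 3)]
    exact Nat.mul_le_mul_left _ (Nat.pow_le_pow_left hp _)
  have h3 : p ^ 2 * (m + 7) ≤ p ^ 2 * 2 ^ (m + 3) := Nat.mul_le_mul_left _ (h1 m)
  have h4 : 1 ≤ p ^ 2 := Nat.one_le_pow _ _ (by omega)
  have h5 : (m + 6) * (p ^ 2 - 1) ≤ (m + 6) * p ^ 2 := Nat.mul_le_mul_left _ (Nat.sub_le _ _)
  have h6 : p ^ 2 * (m + 7) = (m + 6) * p ^ 2 + p ^ 2 := by ring
  have h7 : 4 ≤ p ^ 2 := le_trans (by norm_num) (Nat.pow_le_pow_left hp 2)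
  omega

/-- The dimensions allowed when the planes form one orbit of a semilinear group. -/
theorem dimension {p n N g : ℕ} (hp : p.Prime) (hn : 3 ≤ n)
    (hN : N * ((p ^ 2 - 1) * (p ^ 2 - p)) = (p ^ n - 1) * (p ^ n - p))
    (hg : N * (p - 1) ∣ g) (hgn : g ∣ n * (p ^ n - 1)) (hg0 : 0 < g) :
    n = 3 ∨ (n = 5 ∧ p = 2) := by
  have h2 := hp.two_le
  have hq : 1 < p ^ n := Nat.one_lt_pow (by omega) h2
  have hle : N * (p - 1) ≤ n * (p ^ n - 1) :=
    le_trans (Nat.le_of_dvd hg0 hg) (Nat.le_of_dvd (Nat.mul_pos (by omega) (by omega)) hgn)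
  have h3 : (p ^ n - p) * (p - 1) ≤ n * ((p ^ 2 - 1) * (p ^ 2 - p)) := by
    refine Nat.le_of_mul_le_mul_left ?_ (show 0 < p ^ n - 1 by omega)
    calc (p ^ n - 1) * ((p ^ n - p) * (p - 1)) = N * (p - 1) * ((p ^ 2 - 1) * (p ^ 2 - p)) := by
          rw [← mul_assoc, ← hN]; ring
      _ ≤ n * (p ^ n - 1) * ((p ^ 2 - 1) * (p ^ 2 - p)) := Nat.mul_le_mul_right _ hle
      _ = (p ^ n - 1) * (n * ((p ^ 2 - 1) * (p ^ 2 - p))) := by ring
  have hn' : p ^ n = p * p ^ (n - 1) := by rw [← pow_succ']; congr 1; omega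
  have h4 : p ^ (n - 1) ≤ n * (p ^ 2 - 1) + 1 := by
    have h5 : (p * (p - 1)) * (p ^ (n - 1) - 1) ≤ (p * (p - 1)) * (n * (p ^ 2 - 1)) := by
      have e1 : p ^ n - p = p * (p ^ (n - 1) - 1) := by rw [Nat.mul_sub, ← hn', mul_one]
      have e2 : p ^ 2 - p = p * (p - 1) := by rw [Nat.mul_sub, ← sq, mul_one]
      calc (p * (p - 1)) * (p ^ (n - 1) - 1) = (p ^ n - p) * (p - 1) := by rw [e1]; ring
        _ ≤ _ := h3
        _ = _ := by rw [e2]; ring
    have := Nat.le_of_mul_le_mul_left h5 (Nat.mul_pos (by omega) (by omega))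
    omega
  rcases (show n = 3 ∨ n = 4 ∨ n = 5 ∨ 6 ≤ n by omega) with rfl | rfl | rfl | h6
  · exact Or.inl rfl
  · exfalso
    have hp3 : p ≤ 3 := by
      by_contra h
      have e : p ^ (4 - 1) = p * p ^ 2 := by rw [← pow_succ']
      have h7 : 4 * p ^ 2 ≤ p * p ^ 2 := Nat.mul_le_mul_right _ (by omega)
      have : 16 ≤ p ^ 2 := le_trans (by norm_num) (Nat.pow_le_pow_left (show 4 ≤ p by omega) 2)
      omega
    interval_cases p
    · norm_num at hN hg hgn
      obtain rfl : N = 35 := by omega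
      exact absurd (hg.trans hgn) (by norm_num)
    · norm_num at hN hg hgn
      obtain rfl : N = 130 := by omega
      exact absurd (hg.trans hgn) (by norm_num)
  · refine Or.inr ⟨rfl, ?_⟩
    by_contra hne
    have h3p : 3 ≤ p := by omega
    have e : p ^ (5 - 1) = p ^ 2 * p ^ 2 := by rw [← pow_add]
    have h7 : 9 * p ^ 2 ≤ p ^ 2 * p ^ 2 :=
      Nat.mul_le_mul_right _ (le_trans (by norm_num) (Nat.pow_le_pow_left h3p 2))
    have : 9 ≤ p ^ 2 := le_trans (by norm_num) (Nat.pow_le_pow_left h3p 2)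
    omega
  · exact absurd h4 (not_le.2 (small_pow h2 h6))

end Cfsg.Agent.SameOrderConj
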