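import Cfsg.Agent.S3360
import Cfsg.Agent.Lib.Solvable.Hall
import Cfsg.Agent.Lib.SameOrderConj.Count

/-!
# Solvable linear groups permuting the subspaces of each dimension transitively
-/

set_option autoImplicit false
set_option linter.style.haveILetI false

namespace Cfsg.Agent.SameOrderConj

open Submodule

variable {p : ℕ} [Fact p.Prime] {V : Type*} [AddCommGroup V] [Module (ZMod p) V] [Finite V]

/-- The fixed space of a linear automorphism. -/
def fixSpace (t : V ≃ₗ[ZMod p] V) : Submodule (ZMod p) V where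
  carrier := {v | t v = v}
  add_mem' := fun {a b} ha hb => by show t (a + b) = a + b; rw [map_add, ha, hb]
  zero_mem' := map_zero t
  smul_mem' := fun c a ha => by show t (c • a) = c • a; rw [map_smul, ha]

/-- The fixed points of an element of prime order. -/
theorem fix_modEq {r : ℕ} [Fact r.Prime] {t : V ≃ₗ[ZMod p] V} (ht : orderOf t = r) :
    Nat.card V ≡ Nat.card (fixSpace t) [MOD r] := by
  classical
  haveI := Fintype.ofFinite V
  let f : Function.End V := fun v => t v
  have hiter : ∀ (i : ℕ) (v : V), (f ^ i) v = (t ^ i) v := by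
    intro i
    induction i with
    | zero => intro v; rfl
    | succ i ih =>
      intro v
      rw [pow_succ' f, pow_succ' t]
      show t ((f ^ i) v) = t ((t ^ i) v)
      rw [ih v]
  have hf : f ^ r ^ 1 = 1 := by
    funext v
    rw [hiter, pow_one, ← ht, pow_orderOf_eq_one]
    rfl
  have h := Equiv.Perm.card_fixedPoints_modEq (p := r) (n := 1) hf
  rw [Fintype.card_eq_nat_card, Fintype.card_eq_nat_card] at h
  exact h

/-- No group with order divisible by both 5 and 13 and dividing into a `{5, 13}`-group acts on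
`81` points. -/
theorem no_five_thirteen {H : Subgroup (V ≃ₗ[ZMod p] V)} (hp : p = 3) (hV : Nat.card V = 81)
    (hH : ∀ r : ℕ, r.Prime → r ∣ Nat.card H → r = 5 ∨ r = 13) [Group.IsSolvable H]
    (h5 : 5 ∣ Nat.card H) (h13 : 13 ∣ Nat.card H) : False := by
  classical
  haveI : Finite (V ≃ₗ[ZMod p] V) := Finite.of_injective _ DFunLike.coe_injective
  haveI : Fact (Nat.Prime 5) := ⟨by norm_num⟩
  haveI : Fact (Nat.Prime 13) := ⟨by norm_num⟩
  obtain ⟨s, hs⟩ := exists_prime_orderOf_dvd_card' (G := H) 5 h5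
  obtain ⟨t, ht⟩ := exists_prime_orderOf_dvd_card' (G := H) 13 h13
  have hcard : ∀ W : Submodule (ZMod p) V, ∃ j ≤ 4, Nat.card W = 3 ^ j := by
    intro W
    have h1 := Module.natCard_eq_pow_finrank (K := ZMod p) (V := W)
    rw [Nat.card_zmod] at h1
    subst hp
    refine ⟨_, ?_, h1⟩
    by_contra hlt
    have h2 : Nat.card W ≤ Nat.card V := Nat.card_le_card_of_injective _ W.injective_subtype
    have h3 : 3 ^ 5 ≤ 3 ^ (Module.finrank (ZMod 3) W) := Nat.pow_le_pow_right (by norm_num) (by omega)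
    rw [h1, hV] at h2
    omega
  have hone : ∀ g : V ≃ₗ[ZMod p] V, Nat.card (fixSpace g) = 81 → g = 1 := by
    intro g hg
    refine LinearEquiv.ext fun v => ?_
    have : (fixSpace g : Set V) = Set.univ := Set.eq_of_subset_of_ncard_le (Set.subset_univ _) (by
      rw [Set.ncard_univ, hV, ← Nat.card_coe_set_eq]; exact le_of_eq hg.symm)
    exact (this ▸ Set.mem_univ v : v ∈ (fixSpace g : Set V))
  have hne : ∀ {g : H} {r : ℕ}, r.Prime → orderOf g = r → (g : V ≃ₗ[ZMod p] V) ≠ 1 := by
    intro g r hr hg e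
    have : g = 1 := Subtype.ext e
    rw [this, orderOf_one] at hg
    exact hr.one_lt.ne hg
  -- the fixed spaces of elements of order 5 and 13
  have hfix5 : ∀ g : H, orderOf g = 5 → Nat.card (fixSpace (g : V ≃ₗ[ZMod p] V)) = 1 := by
    intro g hg
    have h := fix_modEq (r := 5) (t := (g : V ≃ₗ[ZMod p] V)) (by rw [Subgroup.orderOf_coe, hg])
    obtain ⟨j, hj, hje⟩ := hcard (fixSpace (g : V ≃ₗ[ZMod p] V))
    rw [hV, hje] at h
    have hne81 : 3 ^ j ≠ 81 := fun e => hne (by norm_num) hg (hone _ (hje.trans e))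
    interval_cases j <;> simp_all [Nat.ModEq]
  have hfix13 : ∀ g : H, orderOf g = 13 → Nat.card (fixSpace (g : V ≃ₗ[ZMod p] V)) = 3 := by
    intro g hg
    have h := fix_modEq (r := 13) (t := (g : V ≃ₗ[ZMod p] V)) (by rw [Subgroup.orderOf_coe, hg])
    obtain ⟨j, hj, hje⟩ := hcard (fixSpace (g : V ≃ₗ[ZMod p] V))
    rw [hV, hje] at h
    have hne81 : 3 ^ j ≠ 81 := fun e => hne (by norm_num) hg (hone _ (hje.trans e))
    interval_cases j <;> simp_all [Nat.ModEq]
  -- an element of order 5 never commutes with one of order 13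
  have hcomm : ∀ g k : H, orderOf g = 5 → orderOf k = 13 → g * k ≠ k * g := by
    intro g k hg hk hgk
    have hinv : ∀ v ∈ fixSpace (k : V ≃ₗ[ZMod p] V),
        (g : V ≃ₗ[ZMod p] V) v ∈ fixSpace (k : V ≃ₗ[ZMod p] V) := by
      intro v hv
      have := congrArg (fun f : H => (f : V ≃ₗ[ZMod p] V) v) hgk
      show (k : V ≃ₗ[ZMod p] V) ((g : V ≃ₗ[ZMod p] V) v) = (g : V ≃ₗ[ZMod p] V) v
      have hv' : (k : V ≃ₗ[ZMod p] V) v = v := hv
      change (g : V ≃ₗ[ZMod p] V) ((k : V ≃ₗ[ZMod p] V) v) = (k : V ≃ₗ[ZMod p] V) ((g : V ≃ₗ[ZMod p] V) v) at this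
      rw [hv'] at this
      exact this.symm
    haveI := Fintype.ofFinite (fixSpace (k : V ≃ₗ[ZMod p] V))
    let f : Function.End (fixSpace (k : V ≃ₗ[ZMod p] V)) := fun v => ⟨_, hinv v v.2⟩
    have hf : f ^ 5 ^ 1 = 1 := by
      funext v
      refine Subtype.ext ?_
      have h5 := congrArg (fun f : H => (f : V ≃ₗ[ZMod p] V) v) (pow_orderOf_eq_one g)
      rw [hg] at h5
      exact h5
    have h := Equiv.Perm.card_fixedPoints_modEq (p := 5) (n := 1) hf
    rw [Fintype.card_eq_nat_card, Fintype.card_eq_nat_card, hfix13 k hk] at h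
    have hle : Nat.card (Function.fixedPoints f) ≤ 1 := by
      rw [← hfix5 g hg]
      exact Nat.card_le_card_of_injective
        (fun v => (⟨(v.1 : V), congrArg Subtype.val v.2⟩ : fixSpace (g : V ≃ₗ[ZMod p] V)))
        fun a b e => Subtype.ext (Subtype.ext (by have e2 := Subtype.ext_iff.1 e; exact e2))
    unfold Nat.ModEq at h
    omega
  -- a minimal normal subgroup
  haveI : Nontrivial H := Finite.one_lt_card_iff_nontrivial.1
    (lt_of_lt_of_le (by norm_num) (Nat.le_of_dvd Nat.card_pos h5))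
  obtain ⟨E, ⟨hEn, hEne⟩, hEmin⟩ :=
    (Set.toFinite {E : Subgroup H | E.Normal ∧ E ≠ ⊥}).exists_minimal ⟨⊤, inferInstance, top_ne_bot⟩
  have hEab : ∀ a ∈ E, ∀ b ∈ E, a * b = b * a := by
    by_contra hc
    have hcb : ⁅E, E⁆ ≠ ⊥ := fun h => hc fun a ha b hb => commutatorElement_eq_one_iff_mul_comm.1
      (Subgroup.mem_bot.1 (h ▸ Subgroup.commutator_mem_commutator ha hb))
    have h1 : ⁅E, E⁆ = E := le_antisymm (Subgroup.commutator_le_self E)
      (hEmin ⟨inferInstance, hcb⟩ (Subgroup.commutator_le_self E))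
    have : ∀ n, derivedSeries H n ≥ E := by
      intro n
      induction n with
      | zero => exact le_top
      | succ n ih => rw [derivedSeries_succ]; exact h1.ge.trans (Subgroup.commutator_mono ih ih)
    obtain ⟨n, hn⟩ := Group.IsSolvable.solvable (G := H)
    exact hEne (le_bot_iff.1 (hn ▸ this n))
  obtain ⟨r, hr, hrE⟩ := Nat.exists_prime_and_dvd
    (n := Nat.card E) (fun h => hEne (Subgroup.card_eq_one.1 h))
  haveI : Fact r.Prime := ⟨hr⟩
  rcases hH r hr (hrE.trans (Subgroup.card_subgroup_dvd_card E)) with rfl | rfl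
  · -- elements of order dividing 5 form a semiregular normal subgroup
    let U : Subgroup H :=
      { carrier := {x | x ∈ E ∧ x ^ 5 = 1}
        one_mem' := ⟨one_mem E, one_pow 5⟩
        mul_mem' := fun {a b} ha hb => ⟨mul_mem ha.1 hb.1, by
          rw [Commute.mul_pow (hEab a ha.1 b hb.1), ha.2, hb.2, one_mul]⟩
        inv_mem' := fun {a} ha => ⟨inv_mem ha.1, by rw [inv_pow, ha.2, inv_one]⟩ }
    obtain ⟨e, he⟩ := exists_prime_orderOf_dvd_card' (G := E) 5 hrE
    have hord : ∀ x ∈ U, x ≠ 1 → orderOf x = 5 := fun x hx hx1 =>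
      orderOf_eq_prime hx.2 hx1
    have hUle : Nat.card U ≤ 81 := by
      obtain ⟨v, hv⟩ : ∃ v : V, v ≠ 0 := by
        haveI : Nontrivial V := Finite.one_lt_card_iff_nontrivial.1 (by omega)
        exact exists_ne 0
      rw [← hV]
      refine Nat.card_le_card_of_injective (fun u : U => ((u : H) : V ≃ₗ[ZMod p] V) v) fun a b h => ?_
      by_contra hne'
      have hm : (a : H)⁻¹ * b ∈ U := mul_mem (inv_mem a.2) b.2
      have h1 := hfix5 _ (hord _ hm fun e => hne' (Subtype.ext (inv_mul_eq_one.1 e)))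
      have hv1 : v ∈ fixSpace (((a : H)⁻¹ * b : H) : V ≃ₗ[ZMod p] V) := by
        show (((a : H) : V ≃ₗ[ZMod p] V))⁻¹ (((b : H) : V ≃ₗ[ZMod p] V) v) = v
        simp only at h
        rw [← h]
        exact LinearEquiv.symm_apply_apply _ v
      haveI : Subsingleton (fixSpace (((a : H)⁻¹ * b : H) : V ≃ₗ[ZMod p] V)) :=
        (Nat.card_eq_one_iff_unique.1 h1).1
      exact hv (congrArg Subtype.val (Subsingleton.elim (⟨v, hv1⟩ : fixSpace _) 0))
    -- `t` moves every nontrivial element of `U`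
    have hU : IsPGroup 5 U := fun u => ⟨1, Subtype.ext (by simpa using u.2.2)⟩
    obtain ⟨k, hk⟩ := IsPGroup.iff_card.1 hU
    have hUn : U.Normal := ⟨fun x hx g => ⟨hEn.conj_mem x hx.1 g, by rw [conj_pow, hx.2]; simp⟩⟩
    haveI := Fintype.ofFinite U
    let f : Function.End U := fun u => ⟨t * u * t⁻¹, hUn.conj_mem u u.2 t⟩
    have hf : f ^ 13 ^ 1 = 1 := by
      have hiter : ∀ (i : ℕ) (u : U), ((f ^ i) u : H) = t ^ i * u * (t ^ i)⁻¹ := by
        intro i
        induction i with
        | zero => intro u; simp [Function.End.one_def]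
        | succ i ih =>
          intro u
          rw [pow_succ']
          show t * ((f ^ i) u : H) * t⁻¹ = _
          rw [ih u]
          simp [pow_succ', mul_assoc]
      funext u
      refine Subtype.ext ((hiter _ u).trans ?_)
      rw [pow_one, ← ht, pow_orderOf_eq_one]
      simp [Function.End.one_def]
    have h := Equiv.Perm.card_fixedPoints_modEq (p := 13) (n := 1) hf
    have h1 : Fintype.card (Function.fixedPoints f) = 1 := by
      refine Fintype.card_eq_one_iff.2 ⟨⟨1, Subtype.ext (by simp [f])⟩, fun x => ?_⟩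
      by_contra hx
      have hx1 : ((x.1 : U) : H) ≠ 1 := fun e => hx (Subtype.ext (Subtype.ext e))
      refine hcomm _ t (hord _ x.1.2 hx1) ht ?_
      have := congrArg Subtype.val x.2
      change t * (x.1 : H) * t⁻¹ = x.1 at this
      exact (mul_inv_eq_iff_eq_mul.1 this).symm
    rw [h1, Fintype.card_eq_nat_card, hk] at h
    have hk0 : k ≠ 0 := fun hk0 => by
      rw [hk0, pow_zero, Subgroup.card_eq_one] at hk
      have heU : (e : H) ∈ U := ⟨e.2, by
        rw [← SubgroupClass.coe_pow, ← he, pow_orderOf_eq_one, OneMemClass.coe_one]⟩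
      rw [hk, Subgroup.mem_bot] at heU
      rw [← Subgroup.orderOf_coe, heU, orderOf_one] at he
      omega
    have hk2 : k ≤ 2 := by
      by_contra hlt
      have h3 : 5 ^ 3 ≤ 5 ^ k := Nat.pow_le_pow_right (by norm_num) (by omega)
      rw [hk] at hUle
      omega
    interval_cases k <;> simp_all [Nat.ModEq]
  · -- an element of order 13 in `E`
    obtain ⟨e, he⟩ := exists_prime_orderOf_dvd_card' (G := E) 13 hrE
    let U : Subgroup H :=
      { carrier := {x | x ∈ E ∧ x ^ 13 = 1}
        one_mem' := ⟨one_mem E, one_pow 13⟩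
        mul_mem' := fun {a b} ha hb => ⟨mul_mem ha.1 hb.1, by
          rw [Commute.mul_pow (hEab a ha.1 b hb.1), ha.2, hb.2, one_mul]⟩
        inv_mem' := fun {a} ha => ⟨inv_mem ha.1, by rw [inv_pow, ha.2, inv_one]⟩ }
    have hUn : U.Normal := ⟨fun x hx g => ⟨hEn.conj_mem x hx.1 g, by rw [conj_pow, hx.2]; simp⟩⟩
    -- common fixed space of `U`
    let W : Submodule (ZMod p) V := ⨅ x : U, fixSpace ((x : H) : V ≃ₗ[ZMod p] V)
    have heU : (e : H) ∈ U := ⟨e.2, by
      rw [← SubgroupClass.coe_pow, ← he, pow_orderOf_eq_one, OneMemClass.coe_one]⟩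
    have hW3 : W ≤ fixSpace (((⟨e, heU⟩ : U) : H) : V ≃ₗ[ZMod p] V) := iInf_le _ _
    have hU : IsPGroup 13 U := fun u => ⟨1, Subtype.ext (by simpa using u.2.2)⟩
    letI : MulAction U V := MulAction.compHom V ((Subgroup.subtype H).comp (Subgroup.subtype U))
    have hmod := hU.card_modEq_card_fixedPoints V
    have hWc : Nat.card (MulAction.fixedPoints U V) = Nat.card W := by
      refine Nat.card_congr (Equiv.subtypeEquivRight fun v => ?_)
      simp only [W, Submodule.mem_iInf]
      exact Iff.rfl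
    rw [hWc, hV] at hmod
    obtain ⟨j, hj, hje⟩ := hcard W
    have h3 : Nat.card W ≤ 3 :=
      (Nat.card_le_card_of_injective _ (Submodule.inclusion_injective hW3)).trans
        (le_of_eq (hfix13 _ (show orderOf ((e : H)) = 13 by rw [Subgroup.orderOf_coe, he])))
    have hW : Nat.card W = 3 := by
      rw [hje] at hmod h3 ⊢
      interval_cases j <;> simp_all [Nat.ModEq]
    have hinv : ∀ v ∈ W, (s : V ≃ₗ[ZMod p] V) v ∈ W := by
      intro v hv
      simp only [W, Submodule.mem_iInf] at hv ⊢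
      intro x
      have hx : s⁻¹ * x * s ∈ U := by simpa using hUn.conj_mem _ x.2 s⁻¹
      have := hv ⟨_, hx⟩
      change ((s : V ≃ₗ[ZMod p] V))⁻¹ (((x : H) : V ≃ₗ[ZMod p] V) ((s : V ≃ₗ[ZMod p] V) v)) = v at this
      show ((x : H) : V ≃ₗ[ZMod p] V) ((s : V ≃ₗ[ZMod p] V) v) = (s : V ≃ₗ[ZMod p] V) v
      exact (LinearEquiv.symm_apply_eq (s : V ≃ₗ[ZMod p] V)).1 this
    haveI := Fintype.ofFinite W
    let f : Function.End W := fun v => ⟨_, hinv v v.2⟩
    have hf : f ^ 5 ^ 1 = 1 := by
      funext v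
      refine Subtype.ext ?_
      have h5 := congrArg (fun f : H => (f : V ≃ₗ[ZMod p] V) v) (pow_orderOf_eq_one s)
      rw [hs] at h5
      exact h5
    have h := Equiv.Perm.card_fixedPoints_modEq (p := 5) (n := 1) hf
    rw [Fintype.card_eq_nat_card, Fintype.card_eq_nat_card, hW] at h
    have hle : Nat.card (Function.fixedPoints f) ≤ 1 := by
      rw [← hfix5 s hs]
      exact Nat.card_le_card_of_injective
        (fun v => (⟨(v.1 : V), congrArg Subtype.val v.2⟩ : fixSpace (s : V ≃ₗ[ZMod p] V)))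
        fun a b e => Subtype.ext (Subtype.ext (by have e2 := Subtype.ext_iff.1 e; exact e2))
    unfold Nat.ModEq at h
    omega

omit [Finite V] in
/-- Semilinearity data are unique. -/
theorem semilinear_unique {F : Type*} [Field F] (e : V ≃+ F) {f : V → V} {a b : F} (hb : b ≠ 0)
    {σ τ : F ≃+* F} (h1 : ∀ v, e (f v) = a * σ (e v)) (h2 : ∀ v, e (f v) = b * τ (e v)) :
    a = b ∧ σ = τ := by
  have hab : a = b := by
    have := h1 (e.symm 1)
    rw [h2, AddEquiv.apply_symm_apply, map_one, map_one, mul_one, mul_one] at this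
    exact this.symm
  refine ⟨hab, RingEquiv.ext fun x => ?_⟩
  have := h1 (e.symm x)
  rw [h2, AddEquiv.apply_symm_apply, ← hab] at this
  exact mul_left_cancel₀ (hab ▸ hb) this.symm

/-- The structure of a solvable linear group permuting lines and planes transitively. -/
theorem shape {X : Type*} [Group X] [Finite X] (hsol : Group.IsSolvable X)
    (ρ : X →* (V ≃ₗ[ZMod p] V)) (hρ : Function.Injective ρ) {n : ℕ} (hn : 3 ≤ n)
    (hV : Nat.card V = p ^ n)
    (htr : ∀ W W' : Submodule (ZMod p) V, Nat.card W = Nat.card W' →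
      ∃ g, W.map (ρ g).toLinearMap = W') :
    (n = 3 ∨ (n = 5 ∧ p = 2)) ∧ ∃ e : V ≃+ GaloisField p n,
      (∀ g : X, ∃ a : GaloisField p n, ∃ σ : GaloisField p n ≃+* GaloisField p n,
        a ≠ 0 ∧ ∀ v, e (ρ g v) = a * σ (e v)) ∧
      (p = 2 → n = 3 → Nat.card X = 21 ∨ (Nat.card X = 7 ∧ ∀ g : X, ∃ a : GaloisField p n,
        a ≠ 0 ∧ ∀ v, e (ρ g v) = a * e v)) ∧
      (p = 2 → n = 5 → Nat.card X = 155) := by
  classical
  have hp : p.Prime := Fact.out
  haveI : Nontrivial V := Finite.one_lt_card_iff_nontrivial.1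
    (by rw [hV]; exact Nat.one_lt_pow (by omega) hp.one_lt)
  haveI : Finite (V ≃ₗ[ZMod p] V) := Finite.of_injective _ DFunLike.coe_injective
  let sc : (ZMod p)ˣ →* (V ≃ₗ[ZMod p] V) :=
    { toFun := fun c => LinearEquiv.smulOfUnit c
      map_one' := LinearEquiv.ext fun v => one_smul _ v
      map_mul' := fun c d => LinearEquiv.ext fun v => mul_smul _ _ v }
  let Φ : X × (ZMod p)ˣ →* (V ≃ₗ[ZMod p] V) :=
    { toFun := fun x => ρ x.1 * sc x.2
      map_one' := by simp
      map_mul' := fun x y => LinearEquiv.ext fun v => by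
        show ρ (x.1 * y.1) (((x.2 * y.2 : (ZMod p)ˣ) : ZMod p) • v) =
          ρ x.1 ((x.2 : ZMod p) • ρ y.1 ((y.2 : ZMod p) • v))
        rw [map_mul, Units.val_mul, mul_smul, ← map_smul (ρ y.1)]
        rfl }
  haveI := hsol
  have hsolG : Group.IsSolvable Φ.range :=
    Group.isSolvable_of_surjective (f := Φ.rangeRestrict) Φ.rangeRestrict_surjective
  -- transitivity on vectors
  have htrans : ∀ v w : V, v ≠ 0 → w ≠ 0 → ∃ g : Φ.range, (g : V ≃ₗ[ZMod p] V) v = w := by
    intro v w hv hw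
    obtain ⟨x, hx⟩ := htr (span (ZMod p) {v}) (span (ZMod p) {w}) (by rw [card_line hv, card_line hw])
    have hmem : ρ x v ∈ span (ZMod p) ({w} : Set V) :=
      hx ▸ Submodule.mem_map_of_mem (mem_span_singleton_self v)
    obtain ⟨a, ha⟩ := mem_span_singleton.1 hmem
    have ha0 : a ≠ 0 := fun e => hv ((ρ x).map_eq_zero_iff.1 (by rw [← ha, e, zero_smul]))
    refine ⟨⟨Φ (x, (Units.mk0 a ha0)⁻¹), ⟨_, rfl⟩⟩, ?_⟩
    show ρ x ((((Units.mk0 a ha0)⁻¹ : (ZMod p)ˣ) : ZMod p) • v) = w
    rw [map_smul, ← ha, Units.val_inv_eq_inv_val, Units.val_mk0, inv_smul_smul₀ ha0]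
  -- the planes
  haveI : Finite (Submodule (ZMod p) V) := Finite.of_injective _ SetLike.coe_injective
  letI : MulAction Φ.range (Planes p V) :=
    { smul := fun g W => ⟨W.1.map (g : V ≃ₗ[ZMod p] V).toLinearMap, by
        exact (Nat.card_congr ((g : V ≃ₗ[ZMod p] V).submoduleMap W.1).symm.toEquiv).trans W.2⟩
      one_smul := fun W => Subtype.ext (Submodule.map_id _)
      mul_smul := fun g h W => Subtype.ext (Submodule.map_comp _ _ _) }
  have hplane : MulAction.IsPretransitive Φ.range (Planes p V) := ⟨fun W W' => by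
    obtain ⟨x, hx⟩ := htr W.1 W'.1 (W.2.trans W'.2.symm)
    refine ⟨⟨Φ (x, 1), ⟨_, rfl⟩⟩, Subtype.ext ?_⟩
    show W.1.map (ρ x * sc 1).toLinearMap = W'.1
    rw [map_one, mul_one, hx]⟩
  have hN := card_planes (p := p) (V := V)
  rw [hV] at hN
  have hN0 : 0 < Nat.card (Planes p V) := by
    refine Nat.pos_of_ne_zero fun h => ?_
    have h1 : 1 < p ^ n := Nat.one_lt_pow (by omega) hp.one_lt
    have h2 : p < p ^ n := lt_of_eq_of_lt (pow_one p).symm (Nat.pow_lt_pow_right hp.one_lt (by omega))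
    rw [h, zero_mul, eq_comm, mul_eq_zero] at hN
    omega
  have hdvd : Nat.card (Planes p V) * (p - 1) ∣ Nat.card Φ.range := by
    obtain ⟨⟨W⟩, -⟩ := Nat.card_pos_iff.1 hN0
    haveI := hplane
    have h1 := MulAction.index_stabilizer_of_transitive (G := Φ.range) W
    rw [← Subgroup.index_mul_card (MulAction.stabilizer Φ.range W), h1]
    refine Nat.mul_dvd_mul_left _ ?_
    have h2 : Nat.card (ZMod p)ˣ = p - 1 := by rw [Nat.card_units, Nat.card_zmod]
    rw [← h2]
    let scR : (ZMod p)ˣ →* MulAction.stabilizer Φ.range W :=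
      { toFun := fun c => ⟨⟨Φ (1, c), ⟨_, rfl⟩⟩, by
          refine MulAction.mem_stabilizer_iff.2 (Subtype.ext ?_)
          show W.1.map (ρ 1 * sc c).toLinearMap = W.1
          rw [map_one, one_mul]
          ext v
          simp only [Submodule.mem_map]
          refine ⟨fun ⟨u, hu, e⟩ => e ▸ W.1.smul_mem _ hu, fun hv => ?_⟩
          exact ⟨((c⁻¹ : (ZMod p)ˣ) : ZMod p) • v, W.1.smul_mem _ hv, smul_inv_smul c v⟩⟩
        map_one' := Subtype.ext (Subtype.ext (map_one (Φ.comp (MonoidHom.inr X (ZMod p)ˣ))))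
        map_mul' := fun c d =>
          Subtype.ext (Subtype.ext (map_mul (Φ.comp (MonoidHom.inr X (ZMod p)ˣ)) c d)) }
    refine Subgroup.card_dvd_of_injective scR fun c d h => ?_
    obtain ⟨v, hv⟩ := exists_ne (0 : V)
    have h3 := congrArg (fun g : MulAction.stabilizer Φ.range W => ((g : Φ.range) : V ≃ₗ[ZMod p] V) v) h
    change ρ 1 ((c : ZMod p) • v) = ρ 1 ((d : ZMod p) • v) at h3
    exact Units.ext (smul_left_injective (ZMod p) hv ((ρ 1).injective h3))
  -- semilinear coordinates
  obtain ⟨F, hF, hFf, e, he⟩ : ∃ (F : Type) (_ : Field F) (_ : Fintype F) (e : V ≃+ F),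
      ∀ g : Φ.range, ∃ (a : F) (σ : F ≃+* F), ∀ v, e ((g : V ≃ₗ[ZMod p] V) v) = a * σ (e v) := by
    rcases Cfsg.Agent.S3360.result p hsolG Φ.range.subtype Subtype.val_injective htrans with h | h
    · exact h
    · exfalso
      obtain ⟨rfl, rfl⟩ : p = 3 ∧ n = 4 := by
        rw [hV] at h
        simp only [Set.mem_insert_iff, Set.mem_singleton_iff] at h
        have hpr : ∀ {r : ℕ} (k : ℕ), r.Prime → p ^ n = r ^ k → p = r ∧ n = k := by
          intro r k hr e
          have h1 : p = r := (Nat.prime_dvd_prime_iff_eq hp hr).1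
            (hp.dvd_of_dvd_pow (e ▸ dvd_pow_self p (by omega)))
          refine ⟨h1, ?_⟩
          rw [h1] at e
          exact Nat.pow_right_injective hr.two_le e
        have key : ∀ r : ℕ, r.Prime → p ^ n = r ^ 2 → False := by
          intro r hr e
          obtain ⟨-, e2⟩ := hpr 2 hr e
          omega
        rcases h with h | h | h | h | h | h
        · exact (key 3 (by norm_num) (h.trans (by norm_num))).elim
        · exact (key 5 (by norm_num) (h.trans (by norm_num))).elim
        · exact (key 7 (by norm_num) (h.trans (by norm_num))).elim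
        · exact (key 11 (by norm_num) (h.trans (by norm_num))).elim
        · exact (key 23 (by norm_num) (h.trans (by norm_num))).elim
        · exact hpr 4 Nat.prime_three (h.trans (by norm_num))
      have hN' : Nat.card (Planes 3 V) = 130 := by norm_num at hN; omega
      rw [hN'] at hdvd
      obtain ⟨m, hm⟩ : ∃ m, Nat.card Φ.range = m := ⟨_, rfl⟩
      rw [hm] at hdvd
      have hm0 : m ≠ 0 := hm ▸ Nat.card_pos.ne'
      obtain ⟨a, c, hc, hac⟩ := Nat.exists_eq_pow_mul_and_not_dvd hm0 5 (by norm_num)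
      have hc0 : c ≠ 0 := fun e => hm0 (by rw [hac, e, mul_zero])
      obtain ⟨b, d, hd, hbd⟩ := Nat.exists_eq_pow_mul_and_not_dvd hc0 13 (by norm_num)
      have hd5 : ¬ 5 ∣ d := fun h => hc (hbd ▸ h.mul_left _)
      have hmd : m = 5 ^ a * 13 ^ b * d := by rw [hac, hbd, mul_assoc]
      haveI := hsolG
      obtain ⟨H, hH⟩ := Cfsg.Agent.Solvable.exists_hall (G := Φ.range) (m := 5 ^ a * 13 ^ b) (n := d)
        (hm.trans hmd) (Nat.Coprime.mul_left (Nat.Coprime.pow_left _
          ((Nat.Prime.coprime_iff_not_dvd (by norm_num)).2 hd5)) (Nat.Coprime.pow_left _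
          ((Nat.Prime.coprime_iff_not_dvd (by norm_num)).2 hd)))
      have hsub : ∀ r : ℕ, r.Prime → (r = 5 ∨ r = 13) → r ∣ m → r ∣ 5 ^ a * 13 ^ b := by
        intro r hr hr5 h
        rw [hmd] at h
        rcases (Nat.Prime.dvd_mul hr).1 h with h | h
        · exact h
        · rcases hr5 with rfl | rfl
          exacts [absurd h hd5, absurd h hd]
      have hcardH : Nat.card (H.map Φ.range.subtype) = 5 ^ a * 13 ^ b := by
        rw [Subgroup.card_map_of_injective Subtype.val_injective, hH]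
      haveI : Group.IsSolvable (H.map Φ.range.subtype) :=
        Group.isSolvable_of_surjective (f := Φ.range.subtype.subgroupMap H)
          (Φ.range.subtype.subgroupMap_surjective H)
      refine no_five_thirteen (H := H.map Φ.range.subtype) rfl (by rw [hV]; norm_num) ?_ ?_ ?_
      · intro r hr hrd
        rw [hcardH] at hrd
        rcases (Nat.Prime.dvd_mul hr).1 hrd with h | h
        · exact Or.inl ((Nat.prime_dvd_prime_iff_eq hr (by norm_num)).1 (hr.dvd_of_dvd_pow h))
        · exact Or.inr ((Nat.prime_dvd_prime_iff_eq hr (by norm_num)).1 (hr.dvd_of_dvd_pow h))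
      · rw [hcardH]
        exact hsub 5 (by norm_num) (Or.inl rfl) ((show 5 ∣ 130 * (3 - 1) by norm_num).trans hdvd)
      · rw [hcardH]
        exact hsub 13 (by norm_num) (Or.inr rfl) ((show 13 ∣ 130 * (3 - 1) by norm_num).trans hdvd)
  have hFcard : Fintype.card F = p ^ n := by
    rw [← Nat.card_eq_fintype_card, ← Nat.card_congr e.toEquiv, hV]
  haveI : CharP F p := by
    refine (CharP.charP_iff_prime_eq_zero hp).2 ?_
    have h1 : p • (e.symm 1 : V) = 0 := by
      rw [← Nat.cast_smul_eq_nsmul (ZMod p), ZMod.natCast_self, zero_smul]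
    have := congrArg e h1
    rwa [map_nsmul, map_zero, AddEquiv.apply_symm_apply, nsmul_eq_mul, mul_one] at this
  have hane : ∀ (g : V ≃ₗ[ZMod p] V) (a : F) (σ : F ≃+* F),
      (∀ v, e (g v) = a * σ (e v)) → a ≠ 0 := by
    intro g a σ h ha
    obtain ⟨v, hv⟩ := exists_ne (0 : V)
    have := h v
    rw [ha, zero_mul, AddEquiv.map_eq_zero_iff, LinearEquiv.map_eq_zero_iff] at this
    exact hv this
  choose a σ haσ using he
  have huniq : ∀ (g : Φ.range) (b : F) (τ : F ≃+* F),
      (∀ v, e ((g : V ≃ₗ[ZMod p] V) v) = b * τ (e v)) → a g = b ∧ σ g = τ :=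
    fun g b τ h => semilinear_unique e (hane _ b τ h) (haσ g) h
  let Ψ : Φ.range →* (F ≃+* F) :=
    { toFun := σ
      map_one' := (huniq 1 1 1 fun v => by simp).2
      map_mul' := fun g h => (huniq (g * h) (a g * σ g (a h)) (σ g * σ h) fun v => by
        show e ((g : V ≃ₗ[ZMod p] V) ((h : V ≃ₗ[ZMod p] V) v)) = _
        rw [haσ, haσ, map_mul, ← mul_assoc]
        rfl).2 }
  haveI : Finite (F ≃+* F) := Finite.of_injective _ DFunLike.coe_injective
  have hAut : Nat.card (F ≃+* F) = n :=
    (SolvableTransitive.ringAut_facts p (by rw [Nat.card_eq_fintype_card, hFcard])).1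
  -- the order of the extended group
  have hGdvd : Nat.card Φ.range ∣ n * (p ^ n - 1) := by
    letI : MulAction Φ.range {v : V // v ≠ 0} :=
      { smul := fun g v => ⟨(g : V ≃ₗ[ZMod p] V) v.1,
          fun h => v.2 ((LinearEquiv.map_eq_zero_iff _).1 h)⟩
        one_smul := fun v => rfl
        mul_smul := fun g h v => rfl }
    haveI : MulAction.IsPretransitive Φ.range {v : V // v ≠ 0} := ⟨fun v w => by
      obtain ⟨g, hg⟩ := htrans v.1 w.1 v.2 w.2
      exact ⟨g, Subtype.ext hg⟩⟩
    have hv1 : e.symm 1 ≠ 0 := fun h => one_ne_zero (α := F) (by rw [← e.apply_symm_apply 1, h, map_zero])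
    set St := MulAction.stabilizer Φ.range (⟨e.symm 1, hv1⟩ : {v : V // v ≠ 0})
    have h1 := MulAction.index_stabilizer_of_transitive (G := Φ.range) (⟨e.symm 1, hv1⟩ : {v : V // v ≠ 0})
    have h2 : Nat.card {v : V // v ≠ 0} = p ^ n - 1 := by
      haveI := Fintype.ofFinite V
      rw [Nat.card_eq_fintype_card, Fintype.card_subtype_compl, Fintype.card_subtype_eq,
        ← Nat.card_eq_fintype_card, hV]
    rw [← Subgroup.index_mul_card St, h1, h2, mul_comm n]
    refine Nat.mul_dvd_mul_left _ ?_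
    rw [← hAut]
    refine Subgroup.card_dvd_of_injective (Ψ.comp St.subtype) fun g h hgh => ?_
    have hval : ∀ g : St, a (g : Φ.range) = 1 := by
      intro g
      have h3 : ((g : Φ.range) : V ≃ₗ[ZMod p] V) (e.symm 1) = e.symm 1 :=
        congrArg Subtype.val (MulAction.mem_stabilizer_iff.1 g.2)
      have h4 := haσ (g : Φ.range) (e.symm 1)
      rw [h3, AddEquiv.apply_symm_apply, map_one, mul_one] at h4
      exact h4.symm
    refine Subtype.ext (Subtype.ext (LinearEquiv.ext fun v => e.injective ?_))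
    rw [haσ, haσ, hval g, hval h]
    exact congrArg (fun τ : F ≃+* F => 1 * τ (e v)) hgh
  have hdim := dimension hp hn hN hdvd hGdvd Nat.card_pos
  refine ⟨hdim, ?_⟩
  haveI : Fintype (GaloisField p n) := Fintype.ofFinite _
  let f : F ≃+* GaloisField p n := FiniteField.ringEquivOfCardEq (by
    rw [hFcard, ← Nat.card_eq_fintype_card, GaloisField.card p n (by omega)])
  let inc : X →* Φ.range := Φ.rangeRestrict.comp (MonoidHom.inl X (ZMod p)ˣ)
  have hinc : ∀ x v, ((inc x : Φ.range) : V ≃ₗ[ZMod p] V) v = ρ x v := fun x v => by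
    show ρ x (((1 : (ZMod p)ˣ) : ZMod p) • v) = ρ x v
    rw [Units.val_one, one_smul]
  have hinci : Function.Injective inc := fun x y h => hρ (LinearEquiv.ext fun v => by
    rw [← hinc x v, ← hinc y v, h])
  refine ⟨e.trans f.toAddEquiv, fun g => ⟨f (a (inc g)), f.symm.trans ((σ (inc g)).trans f),
    fun h => hane _ _ _ (haσ (inc g)) ((map_eq_zero f).1 h), fun v => ?_⟩, ?_, ?_⟩
  · show f (e (ρ g v)) = f (a (inc g)) * f (σ (inc g) (f.symm (f (e v))))
    rw [← hinc, haσ, map_mul, RingEquiv.symm_apply_apply]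
  · rintro rfl rfl
    have hXle : Nat.card X ∣ 21 := by
      have h := (Subgroup.card_dvd_of_injective inc hinci).trans hGdvd
      norm_num at h
      exact h
    have h7 : 7 ∣ Nat.card X := by
      have hN7 : Nat.card (Planes 2 V) = 7 := by norm_num at hN; omega
      have hsurj : Function.Surjective inc := by
        rintro ⟨-, ⟨x, c⟩, rfl⟩
        have hc : Nat.card (ZMod 2)ˣ = 1 := by rw [Nat.card_units, Nat.card_zmod]
        exact ⟨x, Subtype.ext (congrArg Φ (Prod.ext rfl ((Nat.card_eq_one_iff_unique.1 hc).1.elim 1 c)))⟩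
      have h := (Dvd.intro _ rfl : Nat.card (Planes 2 V) ∣ _).trans hdvd
      rw [hN7, ← Nat.card_congr (Equiv.ofBijective inc ⟨hinci, hsurj⟩)] at h
      exact h
    obtain ⟨c, hc⟩ := h7
    rw [hc] at hXle
    have hc3 : c ∣ 3 := Nat.dvd_of_mul_dvd_mul_left (by norm_num) (show 7 * c ∣ 7 * 3 by exact hXle)
    rcases (Nat.dvd_prime Nat.prime_three).1 hc3 with rfl | rfl
    · refine Or.inr ⟨by rw [hc], fun g => ?_⟩
      have h1 : orderOf (Ψ (inc g)) ∣ 7 := by
        refine (orderOf_map_dvd (Ψ.comp inc) g).trans ?_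
        have := orderOf_dvd_natCard g
        rwa [hc] at this
      have h2 : orderOf (Ψ (inc g)) ∣ 3 := hAut ▸ orderOf_dvd_natCard _
      have h3 : Ψ (inc g) = 1 := orderOf_eq_one_iff.1 (Nat.eq_one_of_dvd_coprimes (by norm_num) h1 h2)
      refine ⟨f (a (inc g)), fun h => hane _ _ _ (haσ (inc g)) ((map_eq_zero f).1 h), fun v => ?_⟩
      show f (e (ρ g v)) = f (a (inc g)) * f (e v)
      rw [← hinc, haσ, map_mul]
      change σ (inc g) = 1 at h3
      rw [h3]
      rfl
    · exact Or.inl (by rw [hc])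
  · rintro rfl rfl
    have hN155 : Nat.card (Planes 2 V) = 155 := by norm_num at hN; omega
    have hsurj : Function.Surjective inc := by
      rintro ⟨-, ⟨x, c⟩, rfl⟩
      have hc : Nat.card (ZMod 2)ˣ = 1 := by rw [Nat.card_units, Nat.card_zmod]
      exact ⟨x, Subtype.ext (congrArg Φ (Prod.ext rfl ((Nat.card_eq_one_iff_unique.1 hc).1.elim 1 c)))⟩
    have h := (Dvd.intro _ rfl : Nat.card (Planes 2 V) ∣ _).trans hdvd
    rw [hN155, ← Nat.card_congr (Equiv.ofBijective inc ⟨hinci, hsurj⟩)] at h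
    refine Nat.dvd_antisymm ?_ h
    have h' := (Subgroup.card_dvd_of_injective inc hinci).trans hGdvd
    norm_num at h'
    exact h'

end Cfsg.Agent.SameOrderConj
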