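import Cfsg.Prelude.Def_Perm
import Cfsg.Prelude.Def_Solvable
import Cfsg.Prelude.Def_Transfer
import Cfsg.Agent.Lib.PCore.Basic
import Cfsg.Agent.Lib.SameOrderConj.Linear

/-!
# Abelian Sylow subgroups all of whose subgroups of equal order are conjugate
-/

set_option autoImplicit false
set_option linter.style.haveILetI false

namespace Cfsg.Agent.SameOrderConj

open Cfsg

theorem card_semiaffine_le {p n : ℕ} [Fact p.Prime] (hn : n ≠ 0) :
    Nat.card (semiaffineGroup (GaloisField p n)) ≤ p ^ n * ((p ^ n - 1) * n) := by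
  classical
  haveI : Finite (GaloisField p n ≃+* GaloisField p n) := Finite.of_injective _ DFunLike.coe_injective
  have hAut := (SolvableTransitive.ringAut_facts (R := GaloisField p n) p (GaloisField.card p n hn)).1
  choose a b φ h using fun s : semiaffineGroup (GaloisField p n) => s.2
  refine (Nat.card_le_card_of_injective (fun s => (b s, a s, φ s)) fun s t hst => ?_).trans ?_
  · simp only [Prod.mk.injEq] at hst
    exact Subtype.ext (Equiv.ext fun x => by rw [h, h, hst.1, hst.2.1, hst.2.2])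
  · haveI : Fintype (GaloisField p n) := Fintype.ofFinite _
    rw [Nat.card_prod, Nat.card_prod, Nat.card_units, hAut, GaloisField.card p n hn]

theorem card_affine_le {p n : ℕ} [Fact p.Prime] (hn : n ≠ 0) :
    Nat.card (affineGroup (GaloisField p n)) ≤ p ^ n * (p ^ n - 1) := by
  classical
  choose a b h using fun s : affineGroup (GaloisField p n) => s.2
  refine (Nat.card_le_card_of_injective (fun s => (b s, a s)) fun s t hst => ?_).trans ?_
  · simp only [Prod.mk.injEq] at hst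
    exact Subtype.ext (Equiv.ext fun x => by rw [h, h, hst.1, hst.2])
  · haveI : Fintype (GaloisField p n) := Fintype.ofFinite _
    rw [Nat.card_prod, Nat.card_units, GaloisField.card p n hn]

/-- Burnside: subgroups of an abelian Sylow subgroup conjugate in `G` are conjugate in its
normalizer. -/
theorem exists_normalizer_conj {G : Type*} [Group G] [Finite G] {p : ℕ} [Fact p.Prime]
    (P : Sylow p G) (hP : IsMulCommutative (P : Subgroup G)) {A B : Subgroup G}
    (hA : A ≤ (P : Subgroup G)) (hB : B ≤ (P : Subgroup G)) {g : G}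
    (hg : B = A.map (MulAut.conj g).toMonoidHom) :
    ∃ c ∈ Subgroup.normalizer ((P : Subgroup G) : Set G), B = A.map (MulAut.conj c).toMonoidHom := by
  have hcen : ∀ {C : Subgroup G}, C ≤ (P : Subgroup G) →
      (P : Subgroup G) ≤ Subgroup.centralizer (C : Set G) := fun {C} hC x hx y hy =>
    congrArg Subtype.val (hP.is_comm.comm (⟨y, hC hy⟩ : (P : Subgroup G)) ⟨x, hx⟩)
  let gP : Sylow p G := g • P
  have hgP : ((gP : Sylow p G) : Subgroup G) ≤ Subgroup.centralizer (B : Set G) := by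
    intro x hx
    rw [Sylow.coe_subgroup_smul, Subgroup.mem_smul_pointwise_iff_exists] at hx
    obtain ⟨u, hu, rfl⟩ := hx
    rw [hg]
    rintro _ ⟨a, ha, rfl⟩
    have := congrArg (MulAut.conj g) (hcen hA hu a ha)
    rw [map_mul, map_mul] at this
    exact this
  obtain ⟨c, hc⟩ := MulAction.exists_smul_eq (Subgroup.centralizer (B : Set G))
    (gP.subtype hgP) (P.subtype (hcen hB))
  rw [Sylow.smul_subtype] at hc
  have hcg : ((c : G) * g) • P = P := by
    rw [mul_smul]
    exact Sylow.subtype_injective hc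
  refine ⟨(c : G) * g, Sylow.smul_eq_iff_mem_normalizer.1 hcg, ?_⟩
  have hcB : ∀ y ∈ B, (c : G) * y * (c : G)⁻¹ = y := fun y hy => by
    rw [← c.2 y hy, mul_inv_cancel_right]
  ext x
  constructor
  · intro hx
    have hx' := hx
    rw [hg] at hx'
    obtain ⟨a, ha, rfl⟩ := hx'
    refine ⟨a, ha, ?_⟩
    show (c : G) * g * a * ((c : G) * g)⁻¹ = g * a * g⁻¹
    conv_rhs => rw [← hcB (g * a * g⁻¹) hx]
    simp [mul_assoc]
  · rintro ⟨a, ha, rfl⟩
    have hy : g * a * g⁻¹ ∈ B := hg ▸ ⟨a, ha, rfl⟩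
    show (c : G) * g * a * ((c : G) * g)⁻¹ ∈ B
    rw [show (c : G) * g * a * ((c : G) * g)⁻¹ = (c : G) * (g * a * g⁻¹) * (c : G)⁻¹ by simp [mul_assoc],
      hcB _ hy]
    exact hy

/-- The data of the action on `P`, written additively. -/
theorem exists_action {G : Type*} [Group G] {p : ℕ} {P : Subgroup G}
    {V : Type*} [AddCommGroup V] [Module (ZMod p) V] (ι : V ≃ ↥P)
    (hι : ∀ v w, ι (v + w) = ι v * ι w) :
    ∃ ρ : ↥(Subgroup.normalizer (P : Set G)) →* (V ≃ₗ[ZMod p] V), ∀ g v,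
      ((ι (ρ g v) : ↥P) : G) = (g : G) * (ι v : G) * (g : G)⁻¹ := by
  have hfix : ∀ (g : ↥(Subgroup.normalizer (P : Set G))) (x : ↥P), (g : G) * x * (g : G)⁻¹ ∈ P :=
    fun g x => (Subgroup.mem_normalizer_iff.1 g.2 x).1 x.2
  let act : ↥(Subgroup.normalizer (P : Set G)) → (V →+ V) := fun g =>
    AddMonoidHom.mk' (fun v => ι.symm ⟨(g : G) * (ι v : G) * (g : G)⁻¹, hfix g (ι v)⟩)
      fun v w => ι.injective (Subtype.ext (by rw [hι]; simp [hι, mul_assoc]))
  have hval : ∀ g v, ((ι (act g v) : ↥P) : G) = (g : G) * (ι v : G) * (g : G)⁻¹ := fun g v =>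
    congrArg Subtype.val (ι.apply_symm_apply _)
  have hact : ∀ g h v, act (g * h) v = act g (act h v) := fun g h v =>
    ι.injective (Subtype.ext (by rw [hval, hval, hval]; simp [mul_assoc]))
  have hact1 : ∀ v, act 1 v = v := fun v => ι.injective (Subtype.ext (by rw [hval]; simp))
  let ρe : ↥(Subgroup.normalizer (P : Set G)) → (V ≃ₗ[ZMod p] V) := fun g =>
    { toFun := act g
      map_add' := map_add _
      map_smul' := fun c v => ZMod.map_smul (act g) c v
      invFun := act g⁻¹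
      left_inv := fun v => by rw [← hact, inv_mul_cancel, hact1]
      right_inv := fun v => by rw [← hact, mul_inv_cancel, hact1] }
  exact ⟨MonoidHom.mk' ρe fun g h => LinearEquiv.ext fun v => hact g h v, hval⟩

set_option maxHeartbeats 1000000 in
theorem main_aux {G : Type*} [Group G] [Finite G] {p : ℕ} [Fact p.Prime]
    (hC : ∀ H K : Subgroup G, IsPGroup p H → IsPGroup p K → Nat.card H = Nat.card K →
      ∃ g : G, K = H.map (MulAut.conj g).toMonoidHom) (P : Sylow p G) (n : ℕ) (hn : 3 ≤ n)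
    (hel : Cfsg.IsElementaryAbelian p (P : Subgroup G)) (hcard : Nat.card P = p ^ n)
    {V : Type*} [AddCommGroup V] [Module (ZMod p) V] [Finite V] (ι : V ≃ ↥(P : Subgroup G))
    (hι : ∀ v w, ι (v + w) = ι v * ι w)
    (hsolv : Group.IsSolvable (↥(Subgroup.normalizer ((P : Subgroup G) : Set G)) ⧸
      Cfsg.pPrimeCore p ↥(Subgroup.normalizer ((P : Subgroup G) : Set G)))) :
    let N := Subgroup.normalizer ((P : Subgroup G) : Set G)
    (n = 3 ∧ (∃ f : ↥N ⧸ Cfsg.pPrimeCore p ↥N →* ↥(Cfsg.semiaffineGroup (GaloisField p 3)),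
        Function.Injective f) ∧
      (p = 2 → Nonempty (↥N ⧸ Cfsg.pPrimeCore p ↥N ≃* Cfsg.semiaffineGroup (GaloisField 2 3)) ∨
               Nonempty (↥N ⧸ Cfsg.pPrimeCore p ↥N ≃* Cfsg.affineGroup (GaloisField 2 3)))) ∨
    (n = 5 ∧ p = 2 ∧
      Nonempty (↥N ⧸ Cfsg.pPrimeCore p ↥N ≃* Cfsg.semiaffineGroup (GaloisField 2 5))) := by
  classical
  intro N
  have hp : p.Prime := Fact.out
  set K := Cfsg.pPrimeCore p ↥N with hK
  have hPN : (P : Subgroup G) ≤ N := Subgroup.le_normalizer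
  have hc := hel.1
  have hV : Nat.card V = p ^ n := (Nat.card_congr ι).trans hcard
  obtain ⟨ρ, hρval⟩ := exists_action (p := p) ι hι
  -- the complement
  set P' := (P : Subgroup G).subgroupOf N with hP'
  haveI hP'n : P'.Normal := Subgroup.normal_in_normalizer
  have hP'card : Nat.card P' = p ^ n := by
    rw [Nat.card_congr (Subgroup.subgroupOfEquivOfLe hPN).toEquiv, hcard]
  have hidx : ¬ p ∣ P'.index := fun h => P.not_dvd_index (h.trans (Subgroup.relIndex_dvd_index_of_le hPN))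
  have hcop : (Nat.card P').Coprime P'.index := by
    rw [hP'card]; exact Nat.Coprime.pow_left _ ((Nat.Prime.coprime_iff_not_dvd hp).2 hidx)
  obtain ⟨H, hH⟩ := Subgroup.exists_right_complement'_of_coprime hcop
  have hHcard : Nat.card H = P'.index := by rw [← hH.symm.index_eq_card]
  have hHcop : (Nat.card H).Coprime p := by
    rw [hHcard]; exact ((Nat.Prime.coprime_iff_not_dvd hp).2 hidx).symm
  -- `K ≤ H`
  have hKcop : (Nat.card K).Coprime p := PCore.coprime_card_pPrimeCore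
  have hKH : K ≤ H := by
    have h1 : (Nat.card (K ⊔ H : Subgroup ↥N)).Coprime p := PCore.coprime_card_sup K H hKcop hHcop
    have h2 : Nat.card (K ⊔ H : Subgroup ↥N) ∣ Nat.card P' * Nat.card H :=
      hH.card_mul ▸ Subgroup.card_subgroup_dvd_card _
    rw [hP'card] at h2
    have h3 := (Nat.Coprime.dvd_of_dvd_mul_left (h1.pow_right n) h2)
    have h4 : H = K ⊔ H := Subgroup.eq_of_le_of_card_ge le_sup_right (Nat.le_of_dvd Nat.card_pos h3)
    rw [h4]
    exact le_sup_left
  -- `ρ` and the core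
  have hKρ : ∀ g ∈ K, ρ g = 1 := by
    intro g hg
    refine LinearEquiv.ext fun v => ι.injective (Subtype.ext ?_)
    have hdisj : Disjoint P' K := PCore.disjoint_of_isPGroup_of_coprime
      (IsPGroup.of_card hP'card) hKcop
    have hcomm := PCore.commute_of_normal_of_disjoint hP'n inferInstance hdisj
      (show (⟨(ι v : ↥(P : Subgroup G)), hPN (ι v).2⟩ : ↥N) ∈ P' from (ι v).2) hg
    have := congrArg Subtype.val hcomm
    simp only [Subgroup.coe_mul] at this
    rw [hρval, LinearEquiv.coe_one, id, ← this, mul_inv_cancel_right]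
  have hPρ : ∀ u ∈ P', ρ u = 1 := by
    intro u hu
    refine LinearEquiv.ext fun v => ι.injective (Subtype.ext ?_)
    have := congrArg Subtype.val (hc.is_comm.comm (⟨(u : G), hu⟩ : ↥(P : Subgroup G)) (ι v))
    simp only [Subgroup.coe_mul] at this
    rw [hρval, LinearEquiv.coe_one, id, this, mul_inv_cancel_right]
  haveI hsolX : Group.IsSolvable ↥ρ.range := by
    haveI := hsolv
    let lift := QuotientGroup.lift K ρ.rangeRestrict fun g hg => Subtype.ext (hKρ g hg)
    refine Group.isSolvable_of_surjective (f := lift) fun y => ?_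
    obtain ⟨g, rfl⟩ := ρ.rangeRestrict_surjective y
    exact ⟨QuotientGroup.mk' K g, rfl⟩
  haveI : Finite (V ≃ₗ[ZMod p] V) :=
    Finite.of_injective _ DFunLike.coe_injective
  -- transitivity on the subspaces
  have htr : ∀ W W' : Submodule (ZMod p) (V), Nat.card W = Nat.card W' →
      ∃ g : ↥ρ.range, W.map (ρ.range.subtype g).toLinearMap = W' := by
    intro W W' hWW
    have hι0 : ι 0 = 1 := by
      have := hι 0 0
      rwa [add_zero, left_eq_mul] at this
    have hιneg : ∀ v, ι (-v) = (ι v)⁻¹ := fun v =>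
      eq_inv_of_mul_eq_one_left (by rw [← hι, neg_add_cancel, hι0])
    let sub : Submodule (ZMod p) V → Subgroup G := fun W =>
      { carrier := {x | ∃ v ∈ W, ((ι v : ↥(P : Subgroup G)) : G) = x}
        one_mem' := ⟨0, W.zero_mem, by rw [hι0]; rfl⟩
        mul_mem' := fun {a b} => by
          rintro ⟨v, hv, rfl⟩ ⟨w, hw, rfl⟩
          exact ⟨v + w, W.add_mem hv hw, by rw [hι]; rfl⟩
        inv_mem' := fun {a} => by
          rintro ⟨v, hv, rfl⟩
          exact ⟨-v, W.neg_mem hv, by rw [hιneg]; rfl⟩ }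
    have hsub : ∀ W, sub W ≤ (P : Subgroup G) := by
      rintro W _ ⟨v, -, rfl⟩; exact (ι v).2
    have hmem : ∀ W (x : ↥(P : Subgroup G)), (x : G) ∈ sub W ↔ ι.symm x ∈ W := fun W x =>
      ⟨fun ⟨y, hy, e⟩ => by rwa [← Subtype.ext e, Equiv.symm_apply_apply],
        fun h => ⟨_, h, by rw [Equiv.apply_symm_apply]⟩⟩
    have hcardsub : ∀ W, Nat.card (sub W) = Nat.card W := fun W =>
      (Nat.card_congr (Equiv.ofBijective (fun v : W => (⟨_, v.1, v.2, rfl⟩ : sub W))
        ⟨fun v w h => Subtype.ext (ι.injective (Subtype.ext (by have h2 := Subtype.ext_iff.1 h; exact h2))),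
          fun ⟨x, v, hv, hx⟩ => ⟨⟨v, hv⟩, Subtype.ext hx⟩⟩)).symm
    obtain ⟨g, hg⟩ := hC (sub W) (sub W') (P.2.to_le (hsub W)) (P.2.to_le (hsub W'))
      (by rw [hcardsub, hcardsub, hWW])
    obtain ⟨c, hc', hcW⟩ := exists_normalizer_conj P hel.1 (hsub W) (hsub W') hg
    refine ⟨⟨ρ ⟨c, hc'⟩, _, rfl⟩, ?_⟩
    ext v
    constructor
    · rintro ⟨w, hw, rfl⟩
      have h : ((ι (ρ ⟨c, hc'⟩ w) : ↥(P : Subgroup G)) : G) ∈ sub W' := by
        rw [hcW]
        exact ⟨(ι w : G), ⟨w, hw, rfl⟩, (hρval ⟨c, hc'⟩ w).symm⟩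
      simpa using (hmem W' _).1 h
    · intro hv
      have h : ((ι v : ↥(P : Subgroup G)) : G) ∈ sub W' := ⟨v, hv, rfl⟩
      rw [hcW] at h
      obtain ⟨x, hx, hxe⟩ := h
      refine ⟨ι.symm ⟨x, hsub W hx⟩, (hmem W ⟨x, hsub W hx⟩).1 hx, ?_⟩
      refine ι.injective (Subtype.ext ?_)
      show ((ι (ρ ⟨c, hc'⟩ _) : ↥(P : Subgroup G)) : G) = _
      rw [hρval, Equiv.apply_symm_apply]
      exact hxe
  obtain ⟨hdim, e, he, hp3, hp5⟩ :=
    shape (V := V) hsolX ρ.range.subtype Subtype.val_injective hn hV htr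
  -- the action on the cosets of `H`
  let φ : V → ↥N ⧸ H := fun v =>
    QuotientGroup.mk (⟨(ι v : ↥(P : Subgroup G)), hPN (ι v).2⟩ : ↥N)
  have hφ : Function.Bijective φ := by
    refine ⟨fun v w h => ?_, fun x => ?_⟩
    · have h1 := QuotientGroup.eq.1 h
      have h2 : (⟨(ι v : ↥(P : Subgroup G)), hPN (ι v).2⟩ : ↥N)⁻¹ *
          ⟨(ι w : ↥(P : Subgroup G)), hPN (ι w).2⟩ ∈ P' :=
        mul_mem (inv_mem (show ((ι v) : G) ∈ (P : Subgroup G) from (ι v).2))
          (show ((ι w) : G) ∈ (P : Subgroup G) from (ι w).2)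
      have h3 := Subgroup.disjoint_def.1 hH.disjoint h2 h1
      rw [inv_mul_eq_one] at h3
      exact ι.injective (Subtype.ext (congrArg Subtype.val h3 :))
    · obtain ⟨g, rfl⟩ := QuotientGroup.mk_surjective x
      obtain ⟨⟨u, h⟩, rfl⟩ := hH.2 g
      refine ⟨ι.symm ⟨(u : ↥N).1, u.2⟩, QuotientGroup.eq.2 ?_⟩
      simp only [Equiv.apply_symm_apply]
      show ((u : ↥N))⁻¹ * ((u : ↥N) * (h : ↥N)) ∈ H
      rw [inv_mul_cancel_left]
      exact h.2
  let E : ↥N ⧸ H ≃ GaloisField p n := (Equiv.ofBijective φ hφ).symm.trans e.toEquiv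
  let f₀ : ↥N →* Equiv.Perm (GaloisField p n) :=
    E.permCongrHom.toMonoidHom.comp (MulAction.toPermHom ↥N (↥N ⧸ H))
  have hker : f₀.ker = K := by
    have h1 : f₀.ker = H.normalCore := by
      rw [Subgroup.normalCore_eq_ker]
      ext g
      simp only [f₀, MonoidHom.mem_ker, MonoidHom.comp_apply]
      exact map_eq_one_iff _ E.permCongrHom.injective
    rw [h1]
    refine le_antisymm (PCore.le_pPrimeCore ?_) (Subgroup.normal_le_normalCore.2 hKH)
    exact hHcop.coprime_dvd_left (Subgroup.card_dvd_of_le H.normalCore_le)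
  -- the coordinates of the action
  have hval : ∀ g : ↥N, ∃ u : V, ∃ h ∈ H, ∀ v,
      f₀ g (e v) = e (ρ h v) + e u ∧ ρ g = ρ h := by
    intro g
    obtain ⟨⟨u, h⟩, rfl⟩ := hH.2 g
    refine ⟨ι.symm ⟨(u : ↥N).1, u.2⟩, h, h.2, fun v =>
      ⟨?_, by rw [map_mul, hPρ u u.2, one_mul]⟩⟩
    show E (((u : ↥N) * (h : ↥N)) • E.symm (e v)) = _
    have h1 : E.symm (e v) = φ v := by simp [E]
    have h2 : ((u : ↥N) * (h : ↥N)) • φ v = φ (ρ h v + ι.symm ⟨(u : ↥N).1, u.2⟩) := by
      refine QuotientGroup.eq.2 ?_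
      have e1 : (⟨((ι (ρ h v + ι.symm ⟨(u : ↥N).1, u.2⟩) : ↥(P : Subgroup G)) : G),
          hPN (Subtype.prop _)⟩ : ↥N) = (u : ↥N) * ((h : ↥N) *
            ⟨(ι v : ↥(P : Subgroup G)), hPN (ι v).2⟩ * (h : ↥N)⁻¹) := by
        refine Subtype.ext ?_
        show ((ι (ρ h v + ι.symm ⟨(u : ↥N).1, u.2⟩) : ↥(P : Subgroup G)) : G) = _
        rw [hι, Equiv.apply_symm_apply, hc.is_comm.comm]
        show (u : G) * ((ι (ρ h v) : ↥(P : Subgroup G)) : G) = _
        rw [hρval]
        rfl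
      show (((u : ↥N) * (h : ↥N)) * _)⁻¹ * _ ∈ H
      rw [e1]
      simp only [mul_inv_rev, mul_assoc, inv_mul_cancel_left]
      exact inv_mem h.2
    rw [h1, h2, ← map_add]
    show e ((Equiv.ofBijective φ hφ).symm (φ (ρ h v + ι.symm ⟨(u : ↥N).1, u.2⟩))) = _
    rw [Equiv.ofBijective_symm_apply_apply]
  have hf₀ : ∀ g, f₀ g ∈ semiaffineGroup (GaloisField p n) := by
    intro g
    obtain ⟨u, h, -, huh⟩ := hval g
    obtain ⟨a, σ, ha, haσ⟩ := he ⟨ρ h, h, rfl⟩
    refine ⟨Units.mk0 a ha, e u, σ, fun x => ?_⟩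
    obtain ⟨v, rfl⟩ := e.surjective x
    rw [(huh v).1]
    exact congrArg (· + e u) (haσ v)
  -- orders
  have hQcard : Nat.card (↥N ⧸ K) = p ^ n * Nat.card ↥ρ.range := by
    let r : H →* ↥ρ.range := ρ.rangeRestrict.comp H.subtype
    have hrs : Function.Surjective r := by
      rintro ⟨-, g, rfl⟩
      obtain ⟨⟨u, h⟩, rfl⟩ := hH.2 g
      exact ⟨h, Subtype.ext (show ρ h = ρ ((u : ↥N) * h) by rw [map_mul, hPρ u u.2, one_mul])⟩
    have hrk : r.ker = K.subgroupOf H := by
      ext h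
      rw [MonoidHom.mem_ker, Subgroup.mem_subgroupOf]
      refine ⟨fun hh => ?_, fun hh => Subtype.ext (hKρ _ hh)⟩
      let M : Subgroup ↥N := H ⊓ ρ.ker
      haveI hMn : M.Normal := by
        refine ⟨fun x hx g => ⟨?_, ρ.normal_ker.conj_mem x hx.2 g⟩⟩
        obtain ⟨⟨u, h⟩, rfl⟩ := hH.2 g
        have hux : (u : ↥N) * ((h : ↥N) * x * (h : ↥N)⁻¹) * (u : ↥N)⁻¹ = (h : ↥N) * x * (h : ↥N)⁻¹ := by
          set y := (h : ↥N) * x * (h : ↥N)⁻¹
          have hy : ρ y = 1 := ρ.normal_ker.conj_mem x hx.2 h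
          have := congrArg (fun f : V ≃ₗ[ZMod p] V =>
            ((ι (f (ι.symm ⟨(u : ↥N).1, u.2⟩)) : ↥(P : Subgroup G)) : G)) hy
          simp only [hρval, LinearEquiv.coe_one, id, Equiv.apply_symm_apply] at this
          change (y : G) * (u : ↥N).1 * (y : G)⁻¹ = (u : ↥N).1 at this
          refine mul_inv_eq_iff_eq_mul.2 (Subtype.ext ?_)
          exact (mul_inv_eq_iff_eq_mul.1 this).symm
        rw [show (u : ↥N) * (h : ↥N) * x * ((u : ↥N) * (h : ↥N))⁻¹ =
          (u : ↥N) * ((h : ↥N) * x * (h : ↥N)⁻¹) * (u : ↥N)⁻¹ by simp [mul_assoc], hux]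
        exact H.mul_mem (H.mul_mem h.2 hx.1) (H.inv_mem h.2)
      exact PCore.le_pPrimeCore (N := M)
        (hHcop.coprime_dvd_left (Subgroup.card_dvd_of_le inf_le_left))
        ⟨h.2, congrArg Subtype.val hh⟩
    have h1 : Nat.card H = Nat.card ↥ρ.range * Nat.card K := by
      rw [← Subgroup.card_mul_index r.ker, Subgroup.index_ker, MonoidHom.range_eq_top.2 hrs,
        Subgroup.card_top, hrk, Nat.card_congr (Subgroup.subgroupOfEquivOfLe hKH).toEquiv, mul_comm]
    have h2 := Subgroup.card_eq_card_quotient_mul_card_subgroup K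
    rw [← hH.card_mul, hP'card, h1, ← mul_assoc] at h2
    exact (Nat.eq_of_mul_eq_mul_right Nat.card_pos h2).symm
  let f : ↥N ⧸ K →* ↥(semiaffineGroup (GaloisField p n)) :=
    QuotientGroup.lift K (f₀.codRestrict _ hf₀) fun g hg => Subtype.ext (hker ▸ hg : g ∈ f₀.ker)
  have hfinj : Function.Injective f := by
    refine (injective_iff_map_eq_one f).2 fun x hx => ?_
    obtain ⟨g, rfl⟩ := QuotientGroup.mk_surjective x
    exact (QuotientGroup.eq_one_iff g).2 (hker ▸ (congrArg Subtype.val hx : f₀ g = 1))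
  haveI : Finite (Equiv.Perm (GaloisField p n)) := inferInstance
  rcases hdim with rfl | ⟨rfl, rfl⟩
  · refine Or.inl ⟨rfl, ⟨f, hfinj⟩, ?_⟩
    rintro rfl
    rcases hp3 rfl rfl with hX | ⟨hX, hlin⟩
    · refine Or.inl ⟨MulEquiv.ofBijective f (hfinj.bijective_of_nat_card_le ?_)⟩
      rw [hQcard, hX]
      exact (card_semiaffine_le (p := 2) (n := 3) (by norm_num)).trans (by norm_num)
    · have hf₁ : ∀ g, f₀ g ∈ affineGroup (GaloisField 2 3) := by
        intro g
        obtain ⟨u, h, -, huh⟩ := hval g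
        obtain ⟨a, ha, hav⟩ := hlin ⟨ρ h, h, rfl⟩
        refine ⟨Units.mk0 a ha, e u, fun x => ?_⟩
        obtain ⟨v, rfl⟩ := e.surjective x
        rw [(huh v).1]
        exact congrArg (· + e u) (hav v)
      let f' : ↥N ⧸ K →* ↥(affineGroup (GaloisField 2 3)) :=
        QuotientGroup.lift K (f₀.codRestrict _ hf₁) fun g hg => Subtype.ext (hker ▸ hg : g ∈ f₀.ker)
      have hf'inj : Function.Injective f' := by
        refine (injective_iff_map_eq_one f').2 fun x hx => ?_
        obtain ⟨g, rfl⟩ := QuotientGroup.mk_surjective x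
        exact (QuotientGroup.eq_one_iff g).2 (hker ▸ (congrArg Subtype.val hx : f₀ g = 1))
      refine Or.inr ⟨MulEquiv.ofBijective f' (hf'inj.bijective_of_nat_card_le ?_)⟩
      rw [hQcard, hX]
      exact (card_affine_le (p := 2) (n := 3) (by norm_num)).trans (by norm_num)
  · refine Or.inr ⟨rfl, rfl, ⟨MulEquiv.ofBijective f (hfinj.bijective_of_nat_card_le ?_)⟩⟩
    rw [hQcard, hp5 rfl rfl]
    exact (card_semiaffine_le (p := 2) (n := 5) (by norm_num)).trans (by norm_num)

theorem main {G : Type*} [Group G] [Finite G] {p : ℕ} [Fact p.Prime]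
    (hC : ∀ H K : Subgroup G, IsPGroup p H → IsPGroup p K → Nat.card H = Nat.card K →
      ∃ g : G, K = H.map (MulAut.conj g).toMonoidHom) (P : Sylow p G) (n : ℕ) (hn : 3 ≤ n)
    (hel : Cfsg.IsElementaryAbelian p (P : Subgroup G)) (hcard : Nat.card P = p ^ n)
    (N : Subgroup G) (hN : N = Subgroup.normalizer ((P : Subgroup G) : Set G))
    (hsolv : Group.IsSolvable (↥N ⧸ Cfsg.pPrimeCore p ↥N)) :
    (n = 3 ∧ (∃ f : ↥N ⧸ Cfsg.pPrimeCore p ↥N →* ↥(Cfsg.semiaffineGroup (GaloisField p 3)),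
        Function.Injective f) ∧
      (p = 2 → Nonempty (↥N ⧸ Cfsg.pPrimeCore p ↥N ≃* Cfsg.semiaffineGroup (GaloisField 2 3)) ∨
               Nonempty (↥N ⧸ Cfsg.pPrimeCore p ↥N ≃* Cfsg.affineGroup (GaloisField 2 3)))) ∨
    (n = 5 ∧ p = 2 ∧
      Nonempty (↥N ⧸ Cfsg.pPrimeCore p ↥N ≃* Cfsg.semiaffineGroup (GaloisField 2 5))) := by
  subst hN
  haveI hc := hel.1
  letI : CommGroup ↥(P : Subgroup G) :=
    { (inferInstance : Group ↥(P : Subgroup G)) with mul_comm := fun a b => hc.is_comm.comm a b }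
  have hexp : ∀ v : Additive ↥(P : Subgroup G), p • v = 0 := fun v =>
    congrArg Additive.ofMul (Subtype.ext (hel.2 _ v.toMul.2) : v.toMul ^ p = 1)
  haveI : Finite (Additive ↥(P : Subgroup G)) := inferInstanceAs (Finite ↥(P : Subgroup G))
  exact @main_aux G _ _ p _ hC P n hn hel hcard (Additive ↥(P : Subgroup G)) _
    (AddCommGroup.zmodModule hexp) _ Additive.toMul (fun v w => rfl) hsolv

end Cfsg.Agent.SameOrderConj
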